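import Mathlib
import Cfsg.Agent.H847.Bs.Defs
import Cfsg.Prelude.Def_Characters

/-!
# The polar theorem (S4891): definitions (helper711)

`Φ : Frm F V` (H847: `B` the form, `q` the quadratic form or `0`), `F`, `V` finite.

* `X Φ k` : the totally singular subspaces of dimension `k`;
* `perp Φ U`, `ty Φ U W = (dim (U ∩ W), dim (U^⊥ ∩ W))` : the type of a pair;
* `Act Φ G` : an action of the group `G` on the subspaces of `V` which preserves `≤`, `TI`, `Orth`
  (`Act.ofIso` : a group of isometries);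
* `Reg Φ` : the number of `Z ∈ X (j + 1)` above `U ∈ X j` depends only on `j` (Witt);
* `A.PairTrans j` : `G` is transitive on the pairs of members of `X j` of the same type;
* `Prim Φ k f` : `f : X k → ℂ` has sum zero over the spaces containing any `(k-1)`-dimensional singular space;
* `opA f W = Σ f U` over the `U` with `dim (U ∩ W) = k - 1`, `U`, `W` not orthogonal.

Targets:
* `KerStable Φ k` : `Prim f → Prim (opA f)`  (helper2);
* `EigRat Φ k` : the eigenvalues of `opA` on the primitive functions are rational (helper2);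
* `RatX A k` : every irreducible constituent of the permutation character of `G` on `X k` has integer values
  (helper711: `Reg Φ`, `A.PairTrans j` for `j ≤ k` imply `RatX A k`).
-/

set_option autoImplicit false

namespace Cfsg.Agent.H711.Polar

open Cfsg Cfsg.Agent.H847.Bs Module

universe u v w

variable {F : Type u} {V : Type v} [Field F] [AddCommGroup V] [Module F V]

/-- the totally singular subspaces of dimension `k` -/
abbrev X (Φ : Frm F V) (k : ℕ) : Type v := {U : Submodule F V // Φ.TI U ∧ finrank F U = k}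

instance finiteX [Finite V] (Φ : Frm F V) (k : ℕ) : Finite (X Φ k) := inferInstance

noncomputable instance fintypeX [Finite V] (Φ : Frm F V) (k : ℕ) : Fintype (X Φ k) := Fintype.ofFinite _

theorem B_zero_left (Φ : Frm F V) (y : V) : Φ.B 0 y = 0 := by
  have := Φ.smul_left 0 0 y
  rwa [zero_smul, zero_mul] at this

theorem B_zero_right (Φ : Frm F V) (y : V) : Φ.B y 0 = 0 := Φ.refl _ _ (B_zero_left Φ y)

/-- the orthogonal subspace -/
def perp (Φ : Frm F V) (U : Submodule F V) : Submodule F V where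
  carrier := {x | ∀ y ∈ U, Φ.B x y = 0}
  zero_mem' := fun y _ => B_zero_left Φ y
  add_mem' := by
    intro a b ha hb y hy
    rw [Φ.add_left, ha y hy, hb y hy, add_zero]
  smul_mem' := by
    intro c a ha y hy
    rw [Φ.smul_left, ha y hy, mul_zero]

theorem mem_perp {Φ : Frm F V} {U : Submodule F V} {x : V} : x ∈ perp Φ U ↔ ∀ y ∈ U, Φ.B x y = 0 := Iff.rfl

theorem le_perp_iff {Φ : Frm F V} {U W : Submodule F V} : U ≤ perp Φ W ↔ Φ.Orth U W := Iff.rfl

theorem orth_symm {Φ : Frm F V} {U W : Submodule F V} (h : Φ.Orth U W) : Φ.Orth W U :=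
  fun x hx y hy => Φ.refl _ _ (h y hy x hx)

/-- the type of a pair of subspaces -/
noncomputable def ty (Φ : Frm F V) (U W : Submodule F V) : ℕ × ℕ :=
  (finrank F (U ⊓ W : Submodule F V), finrank F (perp Φ U ⊓ W : Submodule F V))

/-- an action on the subspaces of `V` preserving `≤`, `TI`, `Orth` -/
structure Act (Φ : Frm F V) (G : Type w) [Group G] where
  /-- the action -/
  act : G → Submodule F V → Submodule F V
  one : ∀ U, act 1 U = U
  mul : ∀ g h U, act (g * h) U = act g (act h U)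
  mono : ∀ g U W, U ≤ W → act g U ≤ act g W
  ti : ∀ g U, Φ.TI U → Φ.TI (act g U)
  orth : ∀ g U W, Φ.Orth U W → Φ.Orth (act g U) (act g W)

/-- the action of a group of isometries -/
def Act.ofIso (Φ : Frm F V) {G : Type w} [Group G] (φ : G →* (V ≃ₗ[F] V)) (hφ : ∀ g, φ g ∈ Φ.Iso) : Act Φ G where
  act g U := U.map (φ g : V →ₗ[F] V)
  one U := by
    rw [map_one]; exact Submodule.map_id U
  mul g h U := by
    rw [map_mul, ← Submodule.map_comp]; rfl
  mono g U W h := Submodule.map_mono h
  ti := by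
    rintro g U ⟨h1, h2⟩
    refine ⟨?_, ?_⟩
    · rintro _ ⟨x, hx, rfl⟩ _ ⟨y, hy, rfl⟩
      exact ((hφ g).1 x y).trans (h1 x hx y hy)
    · rintro _ ⟨x, hx, rfl⟩
      exact ((hφ g).2 x).trans (h2 x hx)
  orth := by
    rintro g U W h _ ⟨x, hx, rfl⟩ _ ⟨y, hy, rfl⟩
    exact ((hφ g).1 x y).trans (h x hx y hy)

/-- `G` is transitive on the pairs of singular `j`-spaces of the same type -/
def Act.PairTrans {Φ : Frm F V} {G : Type w} [Group G] (A : Act Φ G) (j : ℕ) : Prop :=
  ∀ U W U' W' : X Φ j, ty Φ U.1 W.1 = ty Φ U'.1 W'.1 → ∃ g : G, A.act g U.1 = U'.1 ∧ A.act g W.1 = W'.1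

/-- regularity: the number of singular `(j + 1)`-spaces above a singular `j`-space depends only on `j` -/
def Reg (Φ : Frm F V) : Prop :=
  ∀ (j : ℕ) (U W : X Φ j), Nat.card {Z : X Φ (j + 1) // U.1 ≤ Z.1} = Nat.card {Z : X Φ (j + 1) // W.1 ≤ Z.1}

open Classical in
/-- primitive functions on `X k` -/
def Prim [Finite V] (Φ : Frm F V) (k : ℕ) (f : X Φ k → ℂ) : Prop :=
  ∀ T : Submodule F V, Φ.TI T → finrank F T + 1 = k → ∑ U : X Φ k, (if T ≤ U.1 then f U else 0) = 0

/-- `dim (U ∩ W) = k - 1` and `U`, `W` are not orthogonal -/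
def Adj (Φ : Frm F V) {k : ℕ} (U W : X Φ k) : Prop :=
  finrank F (U.1 ⊓ W.1 : Submodule F V) + 1 = k ∧ ¬ Φ.Orth U.1 W.1

open Classical in
/-- the adjacency operator -/
noncomputable def opA [Finite V] (Φ : Frm F V) {k : ℕ} (f : X Φ k → ℂ) : X Φ k → ℂ :=
  fun W => ∑ U : X Φ k, (if Adj Φ U W then f U else 0)

/-- target (helper2) -/
def KerStable [Finite V] (Φ : Frm F V) (k : ℕ) : Prop := ∀ f : X Φ k → ℂ, Prim Φ k f → Prim Φ k (opA Φ f)

/-- target (helper2) -/
def EigRat [Finite V] (Φ : Frm F V) (k : ℕ) : Prop :=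
  ∀ (f : X Φ k → ℂ) (a : ℂ), Prim Φ k f → f ≠ 0 → (∀ W, opA Φ f W = a * f W) → ∃ r : ℚ, a = r

/-- every irreducible constituent of the permutation character of `G` on `X k` has integer values -/
def RatX {Φ : Frm F V} {G : Type w} [Group G] (A : Act Φ G) (k : ℕ) : Prop :=
  ∀ χ : IrrCharacter G, (∑ᶠ g : G, (Nat.card {U : X Φ k // A.act g U.1 = U.1} : ℂ) * (χ : G → ℂ) g ≠ 0) →
    ∀ g : G, ∃ n : ℤ, (χ : G → ℂ) g = n

end Cfsg.Agent.H711.Polar
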